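import Mathlib
import Groth.Prelude.Def_CohB1

/-! Points of `P^m` given by tuples with an invertible coordinate. -/

set_option autoImplicit false

universe u

noncomputable section

open CategoryTheory AlgebraicGeometry MvPolynomial HomogeneousLocalization

namespace Groth.Agent.GrassPlucker

variable {m : ℕ} {B C : Type u} [CommRing B] [CommRing C]

/-- The homogeneous coordinate ring of `P^m_ℤ`. -/
abbrev Poly (m : ℕ) : Type u := MvPolynomial (Fin (m + 1)) (ULift.{u} ℤ)

/-- Its grading. -/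
abbrev Gr (m : ℕ) : ℕ → Submodule (ULift.{u} ℤ) (Poly.{u} m) := CohB1.polyGrading m (ULift.{u} ℤ)

/-- The integers in a ring. -/
def zHom (B : Type u) [CommRing B] : ULift.{u} ℤ →+* B :=
  (Int.castRingHom B).comp ULift.ringEquiv.toRingHom

/-- Evaluation at a tuple. -/
def ev (p : Fin (m + 1) → B) : Poly.{u} m →+* B := eval₂Hom (zHom B) p

@[simp] theorem ev_X (p : Fin (m + 1) → B) (i : Fin (m + 1)) : ev p (X i) = p i := eval₂Hom_X' _ _ _

theorem X_mem (i : Fin (m + 1)) : (X i : Poly.{u} m) ∈ Gr.{u} m 1 := isHomogeneous_X _ i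

theorem ev_comp (φ : B →+* C) (p : Fin (m + 1) → B) (a : Poly.{u} m) : φ (ev p a) = ev (fun i => φ (p i)) a := by
  induction a using MvPolynomial.induction_on with
  | C r => simp [ev, zHom]
  | add a b ha hb => simp [ha, hb]
  | mul_X a i ha => simp [ha]

theorem ev_smul {n : ℕ} {a : Poly.{u} m} (ha : a ∈ Gr.{u} m n) (c : B) (p : Fin (m + 1) → B) :
    ev (fun i => c * p i) a = c ^ n * ev p a := by
  simp only [ev, coe_eval₂Hom, eval₂_eq]
  rw [Finset.mul_sum]
  refine Finset.sum_congr rfl fun d hd => ?_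
  have hdeg : ∑ i ∈ d.support, d i = n := by
    have h := (mem_homogeneousSubmodule n a).1 ha (mem_support_iff.1 hd)
    rw [Finsupp.weight_apply] at h
    simpa [Finsupp.sum] using h
  simp only [mul_pow, Finset.prod_mul_distrib, Finset.prod_pow_eq_pow_sum, hdeg]
  ring

/-- The ring map of a point in a basic open. -/
def locPt (p : Fin (m + 1) → B) {f : Poly.{u} m} (h : IsUnit (ev p f)) : Away (Gr.{u} m) f →+* B :=
  (IsLocalization.Away.lift f h).comp (algebraMap (Away (Gr.{u} m) f) (Localization.Away f))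

theorem locPt_spec (p : Fin (m + 1) → B) {f : Poly.{u} m} (h : IsUnit (ev p f)) (z : Away (Gr.{u} m) f) {a : Poly.{u} m}
    {n : ℕ} (hz : z.val * algebraMap (Poly.{u} m) (Localization.Away f) (f ^ n) = algebraMap _ _ a) :
    locPt p h z * ev p f ^ n = ev p a := by
  have := congrArg (IsLocalization.Away.lift (S := Localization.Away f) f h) hz
  rw [map_mul, IsLocalization.Away.lift_eq, IsLocalization.Away.lift_eq, map_pow] at this
  exact this

theorem locPt_mk (p : Fin (m + 1) → B) {f : Poly.{u} m} {d : ℕ} (hf : f ∈ Gr.{u} m d) (h : IsUnit (ev p f)) (n : ℕ)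
    (a : Poly.{u} m) (ha : a ∈ Gr.{u} m (n • d)) : locPt p h (Away.mk (Gr.{u} m) hf n a ha) * ev p f ^ n = ev p a := by
  refine locPt_spec p h _ ?_
  rw [Away.val_mk, Localization.mk_eq_mk']
  exact IsLocalization.mk'_spec' _ a (⟨f ^ n, ⟨n, rfl⟩⟩ : Submonoid.powers f) |> (fun e => by rw [mul_comm]; exact e)

theorem locPt_smul (p : Fin (m + 1) → B) {f : Poly.{u} m} {d : ℕ} (hf : f ∈ Gr.{u} m d) (h : IsUnit (ev p f)) {c : B}
    (hc : IsUnit c) (h' : IsUnit (ev (fun i => c * p i) f)) : locPt (fun i => c * p i) h' = locPt p h := by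
  refine RingHom.ext fun z => ?_
  obtain ⟨n, a, ha, rfl⟩ := Away.mk_surjective (Gr.{u} m) hf z
  refine ((hc.pow (n • d)).mul (h.pow n)).mul_right_cancel ?_
  calc locPt (fun i => c * p i) h' (Away.mk (Gr.{u} m) hf n a ha) * (c ^ (n • d) * ev p f ^ n)
      = locPt (fun i => c * p i) h' (Away.mk (Gr.{u} m) hf n a ha) * ev (fun i => c * p i) f ^ n := by
        rw [ev_smul hf, mul_pow, smul_eq_mul, mul_comm n d, pow_mul]
    _ = c ^ (n • d) * ev p a := by rw [locPt_mk _ hf h', ev_smul ha]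
    _ = _ := by rw [← locPt_mk p hf h n a ha]; ring

theorem locPt_comp (φ : B →+* C) (p : Fin (m + 1) → B) {f : Poly.{u} m} (h : IsUnit (ev p f))
    (h' : IsUnit (ev (fun i => φ (p i)) f)) : φ.comp (locPt p h) = locPt (fun i => φ (p i)) h' := by
  have : φ.comp (IsLocalization.Away.lift (S := Localization.Away f) f h) = IsLocalization.Away.lift f h' := by
    refine IsLocalization.ringHom_ext (Submonoid.powers f) (RingHom.ext fun a => ?_)
    simp [IsLocalization.Away.lift_eq, ev_comp]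
  rw [locPt, ← RingHom.comp_assoc, this]
  rfl

theorem locPt_awayMap (p : Fin (m + 1) → B) {f g x : Poly.{u} m} {d : ℕ} (hg : g ∈ Gr.{u} m d) (hx : x = f * g)
    (h : IsUnit (ev p f)) (h' : IsUnit (ev p x)) :
    (locPt p h').comp (awayMap (Gr.{u} m) hg hx) = locPt p h := by
  refine RingHom.ext fun z => ?_
  show IsLocalization.Away.lift x h' (awayMap (Gr.{u} m) hg hx z).val = IsLocalization.Away.lift f h z.val
  rw [val_awayMap, ← RingHom.comp_apply]
  refine RingHom.congr_fun ?_ _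
  refine IsLocalization.ringHom_ext (Submonoid.powers f) (RingHom.ext fun a => ?_)
  simp [IsLocalization.Away.lift_eq]

/-- The point of `P^m_ℤ` given by a tuple with invertible `i`-th coordinate. -/
def pt (p : Fin (m + 1) → B) (i : Fin (m + 1)) (h : IsUnit (p i)) :
    Spec (CommRingCat.of B) ⟶ Proj (Gr.{u} m) :=
  Spec.map (CommRingCat.ofHom (locPt p (f := X i) (by rwa [ev_X]))) ≫
    Proj.awayι (Gr.{u} m) (X i) (X_mem i) one_pos

theorem pt_eq (p : Fin (m + 1) → B) (i j : Fin (m + 1)) (hi : IsUnit (p i)) (hj : IsUnit (p j)) :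
    pt p i hi = pt p j hj := by
  have hij : IsUnit (ev p (X i * X j : Poly.{u} m)) := by rw [map_mul, ev_X, ev_X]; exact hi.mul hj
  have step : ∀ (a b : Fin (m + 1)) (ha : IsUnit (p a)) (hb : (X i * X j : Poly.{u} m) = X a * X b),
      pt p a ha = Spec.map (CommRingCat.ofHom (locPt p hij)) ≫
        Proj.awayι (Gr.{u} m) (X i * X j) (SetLike.mul_mem_graded (X_mem i) (X_mem j))
          (by norm_num) := by
    intro a b ha hb
    rw [pt, ← locPt_awayMap p (X_mem b) hb (by rwa [ev_X]) hij, CommRingCat.ofHom_comp,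
      Spec.map_comp, Category.assoc, Proj.SpecMap_awayMap_awayι]
  rw [step i j hi rfl, step j i hj (mul_comm _ _)]

theorem pt_smul (p : Fin (m + 1) → B) (i : Fin (m + 1)) (h : IsUnit (p i)) {c : B} (hc : IsUnit c) :
    pt (fun t => c * p t) i (hc.mul h) = pt p i h := by
  rw [pt, pt, locPt_smul p (X_mem i) (by rwa [ev_X]) hc]

theorem pt_comp (φ : B →+* C) (p : Fin (m + 1) → B) (i : Fin (m + 1)) (h : IsUnit (p i)) :
    Spec.map (CommRingCat.ofHom φ) ≫ pt p i h = pt (fun t => φ (p t)) i (h.map φ) := by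
  rw [pt, pt, ← Category.assoc, ← Spec.map_comp, ← CommRingCat.ofHom_comp,
    locPt_comp φ p (by rwa [ev_X]) (by rw [ev_X]; exact h.map φ)]

theorem pt_preimage (p : Fin (m + 1) → B) (i j : Fin (m + 1)) (h : IsUnit (p i)) :
    pt p i h ⁻¹ᵁ Proj.basicOpen (Gr.{u} m) (X j) = PrimeSpectrum.basicOpen (p j) := by
  rw [pt, Scheme.Hom.comp_preimage, Proj.awayι_preimage_basicOpen (Gr.{u} m) _ _ (X_mem j) one_pos]
  have e := locPt_mk p (X_mem i) (by rwa [ev_X]) 1 ((X j : Poly.{u} m) ^ 1)
    (by rw [pow_one]; exact isHomogeneous_X _ j)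
  simp only [pow_one, ev_X] at e
  ext x
  show locPt p _ (Away.mk (Gr.{u} m) _ 1 (X j ^ 1) _) ∉ x.asIdeal ↔ p j ∉ x.asIdeal
  rw [← e]
  constructor
  · exact fun hn hmem => hn (by simpa only [pow_one] using (x.2.mem_or_mem hmem).resolve_right fun hi => x.2.ne_top (Ideal.eq_top_of_isUnit_mem _ hi h))
  · exact fun hn hmem => hn (Ideal.mul_mem_right _ _ (by simpa only [pow_one] using hmem))

/-- The chart ring map reaches all ratios. -/
theorem exists_locPt_eq (p : Fin (m + 1) → B) (i j : Fin (m + 1)) (h : p i = 1) :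
    ∃ z, locPt p (f := X i) (by rw [ev_X, h]; exact isUnit_one) z = p j := by
  refine ⟨Away.mk (Gr.{u} m) (X_mem i) 1 (X j) (X_mem j), ?_⟩
  have e := locPt_mk p (X_mem i) (by rw [ev_X, h]; exact isUnit_one) 1 (X j)
    (X_mem j)
  simpa [h] using e

end Groth.Agent.GrassPlucker
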