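import Mathlib
import Groth.Agent.GrassRep.Smooth
import Groth.Agent.GrassPlucker.ProjPt

/-! The Plücker morphism of the glued Grassmannian is a closed immersion. -/

set_option autoImplicit false

universe u

noncomputable section

open TensorProduct CategoryTheory CategoryTheory.Limits AlgebraicGeometry MvPolynomial

namespace Groth.Agent.GrassPlucker

open GrassClosed GrassRep

variable {R : Type u} [CommRing R] {n k m : ℕ}

/-- A choice of representatives of the `k`-element subsets. -/
structure Frame (n k m : ℕ) where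
  w : Fin (m + 1) → Fin k → Fin n
  inj : ∀ j, Function.Injective (w j)
  cov : ∀ t : Fin k → Fin n, Function.Injective t → ∃ (j : Fin (m + 1)) (π : Equiv.Perm (Fin k)), t = w j ∘ π

variable (F : Frame n k m)

/-- The maximal minors. -/
def minors {A : Type u} [CommRing A] (a : Matrix (Fin k) (Fin n) A) : Fin (m + 1) → A :=
  fun j => (a.submatrix id (F.w j)).det

theorem map_minors {A C : Type u} [CommRing A] [CommRing C] (φ : A →+* C) (a : Matrix (Fin k) (Fin n) A)
    (j : Fin (m + 1)) : φ (minors F a j) = minors F (a.map φ) j := by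
  rw [minors, minors, RingHom.map_det]
  rfl

theorem exists_unit_minor {A : Type u} [CommRing A] (a : Matrix (Fin k) (Fin n) A) {t : Fin k → Fin n}
    (ht : Function.Injective t) (hu : IsUnit (a.submatrix id t).det) : ∃ j, IsUnit (minors F a j) := by
  obtain ⟨j, π, rfl⟩ := F.cov t ht
  refine ⟨j, ?_⟩
  rw [show a.submatrix id (F.w j ∘ π) = (a.submatrix id (F.w j)).submatrix id π from rfl,
    Matrix.det_permute'] at hu
  exact (IsUnit.mul_iff.1 hu).2

theorem submatrix_self {A : Type u} [CommRing A] {s : Fin k → Fin n} {a : Matrix (Fin k) (Fin n) A}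
    (ha : IsNormalised s a) : a.submatrix id s = 1 := by
  ext i j
  have := congrFun (ha j) i
  rw [Matrix.col_apply, Pi.single_apply] at this
  rw [Matrix.submatrix_apply, id_eq, this, Matrix.one_apply]

theorem eq_mul_of_ptMat_eq {A : Type u} [CommRing A] [Algebra R A] {s t : Fin k → Fin n}
    {a a' : Matrix (Fin k) (Fin n) A} {ha : IsNormalised s a} {ha' : IsNormalised t a'}
    (h : ptMat (R := R) a ha = ptMat a' ha') : a = a.submatrix id t * a' := by
  ext j i
  have hmem : eb A i - ∑ l, a' l i • eb A (t l) ∈ (ptMat (R := R) a' ha').toSubmodule := by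
    show lin a' _ = 0
    rw [map_sub, map_sum, lin_eb]
    simp only [map_smul, lin_eb]
    rw [show (∑ l, a' l i • a'.col (t l)) = a'.col i from
      (Finset.sum_congr rfl fun l _ => by rw [ha' l]; rfl).trans (pi_eq_sum_univ' (a'.col i)).symm, sub_self]
  rw [← h] at hmem
  have h2 : lin a (eb A i - ∑ l, a' l i • eb A (t l)) = (0 : Fin k → A) := hmem
  rw [map_sub, map_sum, lin_eb] at h2
  simp only [map_smul, lin_eb, sub_eq_zero] at h2
  rw [Matrix.mul_apply]
  refine (congrFun h2 j).trans ?_
  rw [Finset.sum_apply]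
  exact Finset.sum_congr rfl fun l _ => mul_comm _ _

theorem minors_mul {A : Type u} [CommRing A] {t : Fin k → Fin n} {a a' : Matrix (Fin k) (Fin n) A}
    (h : a = a.submatrix id t * a') : minors F a = fun j => (a.submatrix id t).det * minors F a' j := by
  funext j
  rw [minors, minors, ← Matrix.det_mul]
  conv_lhs => rw [h]
  congr 1

theorem exists_index (s : (grassData R n k).J) : ∃ j, IsUnit (minors F (univMat R s.down.1) j) :=
  exists_unit_minor F _ s.down.2 (by rw [submatrix_self (univMat_normalised _), Matrix.det_one]; exact isUnit_one)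

variable (R) in
/-- A distinguished coordinate of a chart. -/
def index (s : (grassData R n k).J) : Fin (m + 1) := (exists_index F s).choose

variable (R) in
/-- The Plücker map on a chart. -/
def chartZ (s : (grassData R n k).J) : (chartSch R s.down.1).left ⟶ Proj (Gr.{u} m) :=
  pt (minors F (univMat R s.down.1)) (index R F s) (exists_index F s).choose_spec

theorem pt_minors_eq {A : Type u} [CommRing A] {t : Fin k → Fin n} {a a' : Matrix (Fin k) (Fin n) A}
    (h : a = a.submatrix id t * a') (hu : IsUnit (a.submatrix id t).det) (i i' : Fin (m + 1))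
    (hi : IsUnit (minors F a i)) (hi' : IsUnit (minors F a' i')) :
    pt (minors F a) i hi = pt (minors F a') i' hi' := by
  have key : ∀ (q : Fin (m + 1) → A) (hq : q = fun j => (a.submatrix id t).det * minors F a' j) (hqi : IsUnit (q i)),
      pt q i hqi = pt (minors F a') i' hi' := by
    rintro q rfl hqi
    rw [pt_eq _ i i' hqi (hu.mul hi'), pt_smul _ _ hi' hu]
  exact key _ (minors_mul F h) hi

theorem chartZ_comp (s : (grassData R n k).J) {A : CommAlgCat.{u} R} (φ : chartAlg R s.down.1 →ₐ[R] A) :
    (ptAlg φ).left ≫ chartZ R F s = pt (minors F ((univMat R s.down.1).map φ)) (index R F s)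
      (by rw [← AlgHom.coe_toRingHom, ← map_minors]; exact (exists_index F s).choose_spec.map _) := by
  rw [chartZ, ptAlg_left]
  erw [pt_comp]
  congr 1
  exact funext fun j => map_minors F φ.toRingHom _ j

theorem chartZ_compat (s t : (grassData R n k).J) :
    (ovIncl R s.down.1 t.down.1).left ≫ chartZ R F s =
      (swap R s.down.1 t.down.1).left ≫ (ovIncl R t.down.1 s.down.1).left ≫ chartZ R F t := by
  let g := 𝟙 (SpA (ovAlg R s.down.1 t.down.1))
  have h0 := ovVal_swap s.down.1 t.down.1 g
  let φ₁ := homOf (g ≫ ovIncl R s.down.1 t.down.1)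
  let φ₂ := homOf ((g ≫ swap R s.down.1 t.down.1) ≫ ovIncl R t.down.1 s.down.1)
  have e1 : (ovIncl R s.down.1 t.down.1).left = (ptAlg φ₁).left := by
    rw [ptAlg_homOf, Category.id_comp]
  have e2 : (swap R s.down.1 t.down.1).left ≫ (ovIncl R t.down.1 s.down.1).left = (ptAlg φ₂).left := by
    rw [ptAlg_homOf, Category.id_comp]
    rfl
  rw [← Category.assoc, e2, e1, chartZ_comp, chartZ_comp]
  have hpt : ptMat (R := R) ((univMat R s.down.1).map φ₁) (isNormalised_map φ₁ (univMat_normalised _)) =
      ptMat ((univMat R t.down.1).map φ₂) (isNormalised_map φ₂ (univMat_normalised _)) := by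
    rw [← map_ptMat, ← map_ptMat]
    exact h0.symm
  refine pt_minors_eq F (eq_mul_of_ptMat_eq hpt) ?_ _ _ _ _
  rw [← inChart_ptMat_iff (R := R) _ _ (isNormalised_map φ₁ (univMat_normalised s.down.1)), hpt]
  exact inChart_ptMat _ _

variable (R) in
/-- The Plücker map to `P^m_ℤ`. -/
def toProjZ : (grassSch R n k).left ⟶ Proj (Gr.{u} m) :=
  Multicoequalizer.desc (grassData R n k).diagram _ (fun s => chartZ R F s) (by
    rintro ⟨s, t⟩
    exact (chartZ_compat F s t).trans (Category.assoc _ _ _).symm)

theorem chartIncl_toProjZ (s : (grassData R n k).J) :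
    (chartIncl R s).left ≫ toProjZ R F = chartZ R F s :=
  Multicoequalizer.π_desc (grassData R n k).diagram _ _ _ s

variable (R) in
/-- The chart of a frame index. -/
def fr (j : Fin (m + 1)) : (grassData R n k).J := ⟨⟨F.w j, F.inj j⟩⟩

theorem preimage_basicOpen (j : Fin (m + 1)) :
    toProjZ R F ⁻¹ᵁ Proj.basicOpen (Gr.{u} m) (X j) = (chartIncl R (fr R F j)).left.opensRange := by
  ext x
  constructor
  · intro hx
    obtain ⟨s, y, rfl⟩ := (grassData R n k).ι_jointly_surjective x
    have hy : y ∈ chartZ R F s ⁻¹ᵁ Proj.basicOpen (Gr.{u} m) (X j) := by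
      rw [← chartIncl_toProjZ]
      exact hx
    rw [chartZ, pt_preimage] at hy
    have hy' : y ∈ Set.range (ovIncl R s.down.1 (fr R F j).down.1).left.base := by
      show y ∈ Set.range (PrimeSpectrum.comap (algebraMap (chartAlg R s.down.1)
        (Localization.Away (chartDet R s.down.1 (fr R F j).down.1))))
      rw [PrimeSpectrum.localization_away_comap_range _ (chartDet R s.down.1 (fr R F j).down.1)]
      exact hy
    obtain ⟨z, rfl⟩ := hy'
    refine ⟨(ovIncl R (fr R F j).down.1 s.down.1).left.base ((swap R s.down.1 (fr R F j).down.1).left.base z), ?_⟩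
    exact congr(($((grassData R n k).glue_condition s (fr R F j))).base z)
  · rintro ⟨y, rfl⟩
    show y ∈ ((chartIncl R (fr R F j)).left ≫ toProjZ R F) ⁻¹ᵁ Proj.basicOpen (Gr.{u} m) (X j)
    rw [chartIncl_toProjZ, chartZ, pt_preimage]
    show minors F (univMat R (F.w j)) j ∉ y.asIdeal
    rw [minors, submatrix_self (univMat_normalised _), Matrix.det_one]
    exact fun h => y.2.ne_top ((Ideal.eq_top_iff_one _).2 h)

theorem chartHom_range {B : Type u} [CommRing B] (j : Fin (m + 1)) (S : Subring B) (φ : chartAlg R (F.w j) →+* B)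
    (hR : ∀ r : R, φ (algebraMap R _ r) ∈ S) (hp : ∀ t, φ (minors F (univMat R (F.w j)) t) ∈ S)
    (z : chartAlg R (F.w j)) : φ z ∈ S := by
  classical
  obtain ⟨q, rfl⟩ := Ideal.Quotient.mk_surjective z
  let ψ : MvPolynomial (Fin k × Fin n) R →+* B := RingHom.comp φ (Ideal.Quotient.mk (chartIdeal R (F.w j)))
  show ψ q ∈ S
  induction q using MvPolynomial.induction_on with
  | C r => exact hR r
  | add a b ha hb => rw [map_add]; exact S.add_mem ha hb
  | mul_X a p ha =>
    rw [map_mul]
    refine S.mul_mem ha ?_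
    obtain ⟨l, i⟩ := p
    show φ (univMat R (F.w j) l i) ∈ S
    let M := univMat R (F.w j)
    let t := Function.update (F.w j) l i
    have hM : M.submatrix id t = (1 : Matrix (Fin k) (Fin k) _).updateCol l (M.col i) := by
      rw [← submatrix_self (a := M) (univMat_normalised (R := R) (F.w j))]
      ext a b
      by_cases hb : b = l
      · subst hb
        simp [t, Matrix.updateCol_self]
      · simp [t, Matrix.updateCol_ne hb, Function.update_of_ne hb]
    have hdet : (M.submatrix id t).det = M l i := by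
      rw [hM, ← Matrix.cramer_apply]
      simp [Matrix.cramer_one]
    rw [show univMat R (F.w j) l i = M l i from rfl, ← hdet]
    by_cases ht : Function.Injective t
    · obtain ⟨j', π, e⟩ := F.cov t ht
      rw [e, show M.submatrix id (F.w j' ∘ π) = (M.submatrix id (F.w j')).submatrix id π from rfl,
        Matrix.det_permute', map_mul]
      refine S.mul_mem ?_ (hp j')
      rcases Int.units_eq_one_or (Equiv.Perm.sign π) with h | h <;> simp [h, S.neg_mem, S.one_mem]
    · simp only [Function.Injective, not_forall] at ht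
      obtain ⟨a, b, hab, hne⟩ := ht
      rw [Matrix.det_zero_of_column_eq hne (fun c => by simp [hab]), map_zero]
      exact S.zero_mem

theorem iSup_basicOpen_X : ⨆ j : Fin (m + 1), Proj.basicOpen (Gr.{u} m) (X j) = ⊤ := by
  refine Proj.iSup_basicOpen_eq_top' _ _ (fun i => ⟨1, X_mem i⟩) (eq_top_iff.2 fun q hq => ?_)
  clear hq
  induction q using MvPolynomial.induction_on with
  | C r =>
    exact Subalgebra.algebraMap_mem _ (⟨C r, isHomogeneous_C _ r⟩ : Gr.{u} m 0)
  | add a b ha hb => exact add_mem ha hb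
  | mul_X a i ha => exact mul_mem ha (Algebra.subset_adjoin ⟨i, rfl⟩)

theorem appTop_range {A T : Type u} [CommRing A] [CommRing T] {X : Scheme.{u}} (h : Spec (CommRingCat.of A) ⟶ X)
    (q : X ⟶ Spec (CommRingCat.of T)) (φ : T →+* A) (e : h ≫ q = Spec.map (CommRingCat.ofHom φ)) (z : T) :
    (Scheme.ΓSpecIso (CommRingCat.of A)).inv (φ z) ∈ h.appTop.hom.range := by
  refine ⟨q.appTop ((Scheme.ΓSpecIso (CommRingCat.of T)).inv z), ?_⟩
  have h1 := congr(($(congrArg Scheme.Hom.appTop e)) ((Scheme.ΓSpecIso (CommRingCat.of T)).inv z))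
  simp only [Scheme.Hom.comp_appTop, CommRingCat.comp_apply] at h1
  rw [h1]
  exact congr(($(Scheme.ΓSpecIso_inv_naturality (CommRingCat.ofHom φ))) z).symm

/-- The glued Grassmannian has a closed immersion into `P^m`. -/
theorem exists_plucker (F : Frame n k m) :
    ∃ c : (grassSch R n k).left ⟶ CohB1.ProjSpaceOver m (Spec (CommRingCat.of R)),
      IsClosedImmersion c ∧
        c ≫ CohB1.ProjSpaceOver.toBase m (Spec (CommRingCat.of R)) = (grassSch R n k).hom := by
  let cz : (grassSch R n k).left ⟶ CohB1.ProjSpace m (ULift.{u} ℤ) := toProjZ R F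
  let c : (grassSch R n k).left ⟶ CohB1.ProjSpaceOver m (Spec (CommRingCat.of R)) :=
    pullback.lift cz (grassSch R n k).hom (specULiftZIsTerminal.hom_ext _ _)
  refine ⟨c, ?_, pullback.lift_snd _ _ _⟩
  have hcfst : c ≫ pullback.fst _ _ = cz := pullback.lift_fst _ _ _
  let W : Fin (m + 1) → (CohB1.ProjSpaceOver m (Spec (CommRingCat.of R))).Opens :=
    fun j => pullback.fst (CohB1.ProjSpace.toSpec m (ULift.{u} ℤ)) _ ⁻¹ᵁ Proj.basicOpen (Gr.{u} m) (X j)
  have hW : ⨆ j, W j = ⊤ := (Scheme.Hom.preimage_iSup _ _).symm.trans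
    ((congrArg (fun U => pullback.fst (CohB1.ProjSpace.toSpec m (ULift.{u} ℤ)) _ ⁻¹ᵁ U)
      (iSup_basicOpen_X (m := m))).trans rfl)
  refine (IsZariskiLocalAtTarget.iff_of_iSup_eq_top (P := @IsClosedImmersion) W hW).2 fun j => ?_
  let aw : Spec (CommRingCat.of (HomogeneousLocalization.Away (Gr.{u} m) (X j))) ⟶
      CohB1.ProjSpace m (ULift.{u} ℤ) := Proj.awayι (Gr.{u} m) (X j) (X_mem j) one_pos
  haveI : IsOpenImmersion aw := inferInstanceAs (IsOpenImmersion (Proj.awayι (Gr.{u} m) (X j) (X_mem j) one_pos))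
  let f' := aw ≫ CohB1.ProjSpace.toSpec m (ULift.{u} ℤ)
  let g' := specULiftZIsTerminal.from (Spec (CommRingCat.of R))
  let T := pullback f' g'
  let μ : T ⟶ CohB1.ProjSpaceOver m (Spec (CommRingCat.of R)) :=
    pullback.map _ _ _ _ aw (𝟙 _) (𝟙 _) (by simp [f']) (by simp [g'])
  haveI : IsOpenImmersion μ := inferInstanceAs (IsOpenImmersion (pullback.map _ _ _ _ _ _ _ _ _))
  have hμ : μ.opensRange = W j := by
    refine SetLike.coe_injective ?_
    change Set.range (pullback.map _ _ _ _ _ _ _ _ _ : T ⟶ CohB1.ProjSpaceOver m _).base = _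
    erw [Scheme.Pullback.range_map]
    have : Set.range aw.base = (Proj.basicOpen (Gr.{u} m) (X j) : Set (Proj (Gr.{u} m))) :=
      congrArg (fun U : (Proj (Gr.{u} m)).Opens => (U : Set (Proj (Gr.{u} m))))
        (Proj.opensRange_awayι (Gr.{u} m) (X j) (X_mem j) one_pos)
    erw [this]
    simp [W]
    rfl
  let s := fr R F j
  have hu : IsUnit (minors F (univMat R (F.w j)) j) := by
    rw [minors, submatrix_self (univMat_normalised _), Matrix.det_one]
    exact isUnit_one
  have hone : minors F (univMat R (F.w j)) j = 1 := by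
    rw [minors, submatrix_self (univMat_normalised _), Matrix.det_one]
  let φ := locPt (minors F (univMat R (F.w j))) (f := X j) (by rwa [ev_X])
  let h : (chartSch R s.down.1).left ⟶ T :=
    pullback.lift (Spec.map (CommRingCat.ofHom φ)) (chartSch R s.down.1).hom (specULiftZIsTerminal.hom_ext _ _)
  have hh : h ≫ μ = (chartIncl R s).left ≫ c := by
    apply pullback.hom_ext
    · refine ((Category.assoc _ _ _).trans ((congrArg (fun z => h ≫ z) (pullback.lift_fst _ _ _)).trans
        ((Category.assoc _ _ _).symm.trans (congrArg (fun z => z ≫ aw) (pullback.lift_fst _ _ _))))).trans ?_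
      refine Eq.trans ?_ ((congrArg (fun z => (chartIncl R s).left ≫ z) hcfst).symm.trans (Category.assoc _ _ _).symm)
      exact (pt_eq _ j (index R F s) hu (exists_index F s).choose_spec).trans (chartIncl_toProjZ F s).symm
    · refine ((Category.assoc _ _ _).trans ((congrArg (fun z => h ≫ z) (pullback.lift_snd _ _ _)).trans
        ((Category.assoc _ _ _).symm.trans ((Category.comp_id _).trans (pullback.lift_snd _ _ _))))).trans ?_
      exact ((congrArg (fun z => (chartIncl R s).left ≫ z) (pullback.lift_snd _ _ _)).trans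
        (Over.w (chartIncl R s))).symm.trans (Category.assoc _ _ _).symm
  haveI : IsAffine T := inferInstanceAs (IsAffine (pullback f' g'))
  haveI : IsAffine (chartSch R s.down.1).left := inferInstanceAs (IsAffine (Spec (CommRingCat.of (chartAlg R (F.w j)))))
  haveI : IsClosedImmersion h := by
    refine IsClosedImmersion.of_surjective_of_isAffine _ fun z => ?_
    obtain ⟨y, rfl⟩ := (ConcreteCategory.bijective_of_isIso (Scheme.ΓSpecIso (chartAlg R (F.w j) |> CommRingCat.of)).inv).2 z
    refine chartHom_range F j h.appTop.hom.range _ (fun r => ?_) (fun t => ?_) y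
    · exact appTop_range h (pullback.snd f' g') (algebraMap R _) (pullback.lift_snd _ _ _) r
    · obtain ⟨w, hw⟩ := exists_locPt_eq (minors F (univMat R (F.w j))) j t hone
      rw [← hw]
      exact appTop_range h (pullback.fst f' g') φ (pullback.lift_fst _ _ _) w
  have hpre : c ⁻¹ᵁ W j = (chartIncl R s).left.opensRange := by
    rw [← preimage_basicOpen F j]
    exact congrArg (fun z : (grassSch R n k).left ⟶ Proj (Gr.{u} m) => z ⁻¹ᵁ Proj.basicOpen (Gr.{u} m) (X j)) hcfst
  let e₁ : (chartSch R s.down.1).left ≅ (c ⁻¹ᵁ W j).toScheme :=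
    (chartIncl R s).left.isoOpensRange ≪≫ Scheme.isoOfEq _ hpre.symm
  let e₂ : T ≅ (W j).toScheme := μ.isoOpensRange ≪≫ Scheme.isoOfEq _ hμ
  have e : e₁.hom ≫ (c ∣_ W j) = h ≫ e₂.hom := by
    rw [← cancel_mono (W j).ι, Category.assoc, morphismRestrict_ι]
    simp only [e₁, e₂, Iso.trans_hom, Category.assoc, Scheme.isoOfEq_hom_ι_assoc, Scheme.isoOfEq_hom_ι,
      Scheme.Hom.isoOpensRange_hom_ι_assoc, Scheme.Hom.isoOpensRange_hom_ι]
    exact hh.symm
  refine (MorphismProperty.cancel_left_of_respectsIso @IsClosedImmersion e₁.hom _).1 ?_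
  rw [e]
  infer_instance

end Groth.Agent.GrassPlucker
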