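import Mathlib
import Groth.Agent.GrassPlucker.Morphism
import Groth.Agent.GrassClosed.Comap

/-! Projectivity of any scheme representing a Grassmannian functor of a quotient of a free module. -/

set_option autoImplicit false

universe u

noncomputable section

open TensorProduct CategoryTheory CategoryTheory.Limits AlgebraicGeometry

namespace Groth.Agent.GrassPlucker

open GrassClosed GrassRep

variable {R : Type u} [CommRing R] {n k : ℕ}

theorem nonempty_frame (h : k ≤ n) : Nonempty (Frame n k (n.choose k - 1)) := by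
  classical
  have hc : n.choose k - 1 + 1 = Fintype.card {S : Finset (Fin n) // S.card = k} := by
    rw [Fintype.card_finset_len, Fintype.card_fin, Nat.sub_add_cancel (Nat.choose_pos h)]
  let E := (Fintype.equivFinOfCardEq hc.symm).symm
  refine ⟨⟨fun j => (E j).1.orderEmbOfFin (E j).2, fun j => ((E j).1.orderEmbOfFin (E j).2).injective,
    fun t ht => ?_⟩⟩
  let S : {S : Finset (Fin n) // S.card = k} :=
    ⟨Finset.univ.image t, by rw [Finset.card_image_of_injective _ ht, Finset.card_univ, Fintype.card_fin]⟩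
  refine ⟨E.symm S, ?_⟩
  show ∃ π : Equiv.Perm (Fin k), t = (E (E.symm S)).1.orderEmbOfFin (E (E.symm S)).2 ∘ π
  rw [Equiv.apply_symm_apply]
  have hmem : ∀ l, t l ∈ S.1 := fun l => Finset.mem_image_of_mem _ (Finset.mem_univ l)
  let g : Fin k → Fin k := fun l => (S.1.orderIsoOfFin S.2).symm ⟨t l, hmem l⟩
  have hg : Function.Injective g := fun a b e => ht (by simpa [g] using e)
  refine ⟨Equiv.ofBijective g (Finite.injective_iff_bijective.1 hg), funext fun l => ?_⟩
  show t l = S.1.orderEmbOfFin S.2 (g l)
  rw [← Finset.coe_orderIsoOfFin_apply]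
  simp [g]

/-- Projectivity of the Grassmannian of a quotient of `R^n`. -/
theorem exists_closedImmersion {M : Type u} [AddCommGroup M] [Module R M] (v : (Fin n → R) →ₗ[R] M)
    (hv : Function.Surjective v) (h : k ≤ n) (X : Over (Spec (CommRingCat.of R)))
    (e : ∀ A : CommAlgCat.{u} R, (SpA A ⟶ X) ≃ (Module.Grassmannian.functor (R := R) (M := M) k).obj A)
    (he : ∀ (A B : CommAlgCat.{u} R) (φ : A ⟶ B) (g : SpA A ⟶ X) (g' : SpA B ⟶ X),
      g'.left = Spec.map (CommRingCat.ofHom φ.hom.toRingHom) ≫ g.left →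
        e B g' = (Module.Grassmannian.functor (R := R) (M := M) k).map φ (e A g)) :
    ∃ c : X.left ⟶ CohB1.ProjSpaceOver (n.choose k - 1) (Spec (CommRingCat.of R)),
      IsClosedImmersion c ∧
        c ≫ CohB1.ProjSpaceOver.toBase (n.choose k - 1) (Spec (CommRingCat.of R)) = X.hom := by
  obtain ⟨F⟩ := nonempty_frame h
  obtain ⟨p, hp, hpb⟩ := exists_plucker (R := R) F
  obtain ⟨⟨c, hc⟩, hcl⟩ := closedImmersion_of_comap v hv (grassSch R n k) X (pointsEquiv R n k)
    pointsEquiv_natural e he
  haveI := hp
  haveI := hcl c hc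
  refine ⟨c.left ≫ p, inferInstance, ?_⟩
  rw [Category.assoc, hpb]
  exact Over.w c

end Groth.Agent.GrassPlucker
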